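import Mathlib.Algebra.Homology.DerivedCategory.TStructure
import Mathlib.Algebra.Homology.DerivedCategory.FullyFaithful
import Mathlib.Algebra.Homology.DerivedCategory.HomologySequence
import Mathlib.CategoryTheory.Triangulated.TStructure.TruncLEGT
import Mathlib.CategoryTheory.ComposableArrows.Basic

/-!
# Chains of maps killing the lower cohomology
-/

universe w v u

open CategoryTheory CategoryTheory.Limits DerivedCategory DerivedCategory.TStructure Pretriangulated

namespace Groth.Agent.DerTrunc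

variable {A : Type u} [Category.{v} A] [Abelian A] [HasDerivedCategory.{w} A]

local notation "H" => homologyFunctor A

theorem isLE_of {X : DerivedCategory A} {n : ℤ} (h : ∀ i, n < i → IsZero ((H i).obj X)) : X.IsLE n :=
  (isLE_iff X n).mpr h

theorem isGE_of {X : DerivedCategory A} {n : ℤ} (h : ∀ i, i < n → IsZero ((H i).obj X)) : X.IsGE n :=
  (isGE_iff X n).mpr h

theorem isZero_H_truncLT (X : DerivedCategory A) (n i : ℤ) (hi : n ≤ i) :
    IsZero ((H i).obj ((t.truncLT n).obj X)) :=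
  haveI : ((t.truncLT n).obj X).IsLE (n - 1) := inferInstanceAs (t.IsLE _ _)
  isZero_of_isLE _ (n - 1) i (by omega)

theorem isZero_H_truncGE (X : DerivedCategory A) (n i : ℤ) (hi : i < n) :
    IsZero ((H i).obj ((t.truncGE n).obj X)) :=
  haveI : ((t.truncGE n).obj X).IsGE n := inferInstanceAs (t.IsGE _ _)
  isZero_of_isGE _ n i hi

theorem epi_H_π (X : DerivedCategory A) (n i : ℤ) (hi : n ≤ i + 1) :
    Epi ((H i).map ((t.truncGEπ n).app X)) := by
  have h : Epi ((H i).map ((t.triangleLTGE n).obj X).mor₂) :=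
    (HomologySequence.epi_homologyMap_mor₂_iff _ (t.triangleLTGE_distinguished n X) i (i + 1) rfl).mpr
      ((isZero_H_truncLT X n (i + 1) hi).eq_of_tgt _ _)
  exact h

theorem mono_H_π (X : DerivedCategory A) (n i : ℤ) (hi : n ≤ i) :
    Mono ((H i).map ((t.truncGEπ n).app X)) := by
  have h : Mono ((H i).map ((t.triangleLTGE n).obj X).mor₂) :=
    (HomologySequence.mono_homologyMap_mor₂_iff _ (t.triangleLTGE_distinguished n X) i).mpr
      ((isZero_H_truncLT X n i hi).eq_of_src _ _)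
  exact h

theorem mono_H_ι (X : DerivedCategory A) (n i : ℤ) (hi : i ≤ n) :
    Mono ((H i).map ((t.truncLTι n).app X)) := by
  have h : Mono ((H i).map ((t.triangleLTGE n).obj X).mor₁) :=
    (HomologySequence.mono_homologyMap_mor₁_iff _ (t.triangleLTGE_distinguished n X) (i - 1) i (by omega)).mpr
      ((isZero_H_truncGE X n (i - 1) (by omega)).eq_of_src _ _)
  exact h

theorem isLE_truncGE (X : DerivedCategory A) (a : ℤ) [X.IsLE a] : ((t.truncGE a).obj X).IsLE a := by
  refine isLE_of fun i hi => ?_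
  haveI := epi_H_π X a i (by omega)
  exact IsZero.of_epi ((H i).map ((t.truncGEπ a).app X)) (isZero_of_isLE X a i hi)

theorem isGE_truncLT (X : DerivedCategory A) (a b : ℤ) (hab : a ≤ b) [X.IsGE a] : ((t.truncLT b).obj X).IsGE a := by
  refine isGE_of fun i hi => ?_
  haveI := mono_H_ι X b i (by omega)
  exact IsZero.of_mono ((H i).map ((t.truncLTι b).app X)) (isZero_of_isGE X a i hi)

/-- Between objects concentrated in one degree a map is zero when its cohomology map is. -/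
theorem eq_zero_of_concentrated {X Y : DerivedCategory A} (a : ℤ) [X.IsGE a] [X.IsLE a] [Y.IsGE a] [Y.IsLE a]
    (g : X ⟶ Y) (hg : (H a).map g = 0) : g = 0 := by
  obtain ⟨P, ⟨e₁⟩⟩ := exists_iso_singleFunctor_obj_of_isGE_of_isLE X a
  obtain ⟨Q, ⟨e₂⟩⟩ := exists_iso_singleFunctor_obj_of_isGE_of_isLE Y a
  obtain ⟨h, hh⟩ := (singleFunctor A a).map_surjective (e₁.inv ≫ g ≫ e₂.hom)
  have h1 : (H a).map ((singleFunctor A a).map h) = 0 := by
    rw [hh, Functor.map_comp, Functor.map_comp, hg, zero_comp, comp_zero]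
  have h2 := (singleFunctorCompHomologyFunctorIso A a).hom.naturality h
  rw [Functor.comp_map, h1, zero_comp] at h2
  have h3 : h = 0 := by
    rw [← cancel_epi ((singleFunctorCompHomologyFunctorIso A a).hom.app P), comp_zero]
    exact h2.symm
  rw [h3, Functor.map_zero] at hh
  calc g = e₁.hom ≫ (e₁.inv ≫ g ≫ e₂.hom) ≫ e₂.inv := by simp
    _ = 0 := by rw [← hh, zero_comp, comp_zero]

/-- A map from an object `≤ a` to an object `≥ a` is detected by `H^a`. -/
theorem eq_zero_of_H_eq_zero {W G : DerivedCategory A} (a : ℤ) [W.IsLE a] [G.IsGE a]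
    (g : W ⟶ G) (hg : (H a).map g = 0) : g = 0 := by
  haveI : t.IsGE G a := inferInstanceAs (G.IsGE a)
  let g₁ : (t.truncGE a).obj W ⟶ G := t.descTruncGE g a
  have hg₁ : (t.truncGEπ a).app W ≫ g₁ = g := t.π_descTruncGE g a
  haveI : t.IsLE ((t.truncGE a).obj W) a := isLE_truncGE W a
  let g₂ : (t.truncGE a).obj W ⟶ (t.truncLT (a + 1)).obj G := t.liftTruncLT g₁ a (a + 1) rfl
  have hg₂ : g₂ ≫ (t.truncLTι (a + 1)).app G = g₁ := t.liftTruncLT_ι g₁ a (a + 1) rfl
  haveI : ((t.truncGE a).obj W).IsGE a := inferInstanceAs (t.IsGE _ _)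
  haveI : ((t.truncGE a).obj W).IsLE a := isLE_truncGE W a
  haveI : ((t.truncLT (a + 1)).obj G).IsLE a := inferInstanceAs (t.IsLE _ _)
  haveI : ((t.truncLT (a + 1)).obj G).IsGE a := isGE_truncLT G a (a + 1) (by omega)
  haveI := epi_H_π W a a (by omega)
  haveI := mono_H_ι G (a + 1) a (by omega)
  have h2 : g₂ = 0 := by
    refine eq_zero_of_concentrated a g₂ ?_
    rw [← cancel_epi ((H a).map ((t.truncGEπ a).app W)), ← cancel_mono ((H a).map ((t.truncLTι (a + 1)).app G)),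
      comp_zero, zero_comp, ← Functor.map_comp, ← Functor.map_comp, Category.assoc, hg₂, hg₁, hg]
  rw [← hg₁, ← hg₂, h2, zero_comp, comp_zero]

/-- A map out of an object `≤ a` killing `H^a` factors through the truncation below `a`. -/
theorem exists_factor_truncLT {W Y : DerivedCategory A} (a : ℤ) [W.IsLE a] (h : W ⟶ Y) (hh : (H a).map h = 0) :
    ∃ h' : W ⟶ (t.truncLT a).obj Y, h' ≫ (t.truncLTι a).app Y = h := by
  haveI : ((t.truncGE a).obj Y).IsGE a := inferInstanceAs (t.IsGE _ _)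
  have h0 : h ≫ (t.truncGEπ a).app Y = 0 :=
    eq_zero_of_H_eq_zero a _ (by rw [Functor.map_comp, hh, zero_comp])
  obtain ⟨h', hh'⟩ := Triangle.coyoneda_exact₂ _ (t.triangleLTGE_distinguished a Y) h h0
  exact ⟨h', hh'.symm⟩

theorem comp_eq_zero {m : ℕ} (k : ℤ) (K : ComposableArrows (DerivedCategory A) m)
    (hK : ∀ (i : ℕ) (hi : i ≤ m) (p : ℤ), p < 0 → IsZero ((H p).obj (K.obj' i)))
    (hf : ∀ (i : ℕ) (hi : i < m) (p : ℤ), p < k → (H p).map (K.map' i (i + 1)) = 0) :
    ∀ (n : ℕ), (n : ℤ) ≤ k → ∀ (i j : ℕ) (hj : j ≤ m) (hij : i + n = j)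
      (W : DerivedCategory A) [W.IsLE ((n : ℤ) - 1)] (w : W ⟶ K.obj' i), w ≫ K.map' i j = 0 := by
  intro n
  induction n with
  | zero =>
    intro _ i j hj hij W _ w
    haveI : (K.obj' i).IsGE 0 := isGE_of fun p hp => hK i (by omega) p hp
    haveI : t.IsLE W (-1) := inferInstanceAs (W.IsLE (((0 : ℕ) : ℤ) - 1))
    haveI : t.IsGE (K.obj' i) 0 := inferInstanceAs ((K.obj' i).IsGE 0)
    rw [t.zero_of_isLE_of_isGE w (-1) 0 (by omega) inferInstance inferInstance, zero_comp]
  | succ n ih =>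
    intro hn i j hj hij W _ w
    haveI : W.IsLE (n : ℤ) := by
      have h : W.IsLE ((((n + 1 : ℕ)) : ℤ) - 1) := inferInstance
      simpa using h
    have hH : (H n).map (w ≫ K.map' i (i + 1)) = 0 := by
      rw [Functor.map_comp, hf i (by omega) n (by omega), comp_zero]
    obtain ⟨w', hw'⟩ := exists_factor_truncLT (n : ℤ) _ hH
    haveI : ((t.truncLT (n : ℤ)).obj (K.obj' (i + 1))).IsLE ((n : ℤ) - 1) := inferInstanceAs (t.IsLE _ _)
    have h := ih (by omega) (i + 1) j hj (by omega) _ ((t.truncLTι (n : ℤ)).app (K.obj' (i + 1) _))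
    rw [K.map'_comp i (i + 1) j (by omega) (by omega) (by omega), ← Category.assoc, ← hw', Category.assoc, h, comp_zero]

/-- The composite of such a chain factors through the top cohomology. -/
theorem exists_factor (k : ℕ) (K : ComposableArrows (DerivedCategory A) (2 * k))
    (hK : ∀ (i : ℕ) (hi : i ≤ 2 * k) (p : ℤ), p < 0 ∨ (k : ℤ) < p → IsZero ((H p).obj (K.obj' i)))
    (hf : ∀ (i : ℕ) (hi : i < 2 * k) (p : ℤ), p < (k : ℤ) → (H p).map (K.map' i (i + 1)) = 0)
    (π : K.obj' 0 ⟶ (singleFunctor A (k : ℤ)).obj ((H (k : ℤ)).obj (K.obj' 0)))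
    (hπ : IsIso ((H (k : ℤ)).map π)) :
    ∃ φ : (singleFunctor A (k : ℤ)).obj ((H (k : ℤ)).obj (K.obj' 0)) ⟶ K.obj' (2 * k),
      K.map' 0 (2 * k) = π ≫ φ := by
  haveI : ((t.truncLT (k : ℤ)).obj (K.obj' 0)).IsLE ((k : ℤ) - 1) := inferInstanceAs (t.IsLE _ _)
  have h0 : (t.truncLTι (k : ℤ)).app (K.obj' 0) ≫ K.map' 0 (2 * k) = 0 := by
    have h := comp_eq_zero (k : ℤ) K (fun i hi p hp => hK i hi p (Or.inl hp)) hf k le_rfl 0 k (by omega) (by omega)
      ((t.truncLT (k : ℤ)).obj (K.obj' 0 _)) ((t.truncLTι (k : ℤ)).app (K.obj' 0 _))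
    rw [K.map'_comp 0 k (2 * k) (by omega) (by omega) (by omega), ← Category.assoc, h, zero_comp]
  obtain ⟨ψ, hψ⟩ := Triangle.yoneda_exact₂ _ (t.triangleLTGE_distinguished (k : ℤ) (K.obj' 0)) _ h0
  haveI : t.IsGE ((singleFunctor A (k : ℤ)).obj ((H (k : ℤ)).obj (K.obj' 0))) (k : ℤ) :=
    inferInstanceAs (DerivedCategory.IsGE _ _)
  let π₁ := t.descTruncGE π (k : ℤ)
  have hπ₁ : (t.truncGEπ (k : ℤ)).app (K.obj' 0) ≫ π₁ = π := t.π_descTruncGE π (k : ℤ)
  haveI : (K.obj' 0).IsLE (k : ℤ) := isLE_of fun p hp => hK 0 (by omega) p (Or.inr hp)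
  haveI : IsIso π₁ := by
    rw [DerivedCategory.isIso_iff]
    intro i
    by_cases hi : i = (k : ℤ)
    · subst hi
      haveI := epi_H_π (K.obj' 0) (k : ℤ) (k : ℤ) (by omega)
      haveI := mono_H_π (K.obj' 0) (k : ℤ) (k : ℤ) (by omega)
      haveI : IsIso ((H (k : ℤ)).map ((t.truncGEπ (k : ℤ)).app (K.obj' 0))) := isIso_of_mono_of_epi _
      haveI : IsIso ((H (k : ℤ)).map ((t.truncGEπ (k : ℤ)).app (K.obj' 0)) ≫ (H (k : ℤ)).map π₁) := by
        rw [← Functor.map_comp, hπ₁]; exact hπ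
      exact IsIso.of_isIso_comp_left ((H (k : ℤ)).map ((t.truncGEπ (k : ℤ)).app (K.obj' 0 _))) _
    · rcases lt_or_gt_of_ne hi with h | h
      · exact isIso_of_isTerminal (isZero_H_truncGE _ _ i h).isTerminal (isZero_of_isGE _ (k : ℤ) i h).isTerminal _
      · haveI := isLE_truncGE (K.obj' 0 _) (k : ℤ)
        exact isIso_of_isTerminal (isZero_of_isLE _ (k : ℤ) i h).isTerminal (isZero_of_isLE _ (k : ℤ) i h).isTerminal _
  refine ⟨inv π₁ ≫ ψ, ?_⟩
  rw [← hπ₁, Category.assoc, IsIso.hom_inv_id_assoc]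
  exact hψ

end Groth.Agent.DerTrunc
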